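import Mathlib
import Groth.Agent.Lib.Helper4.UnivOpen4

/-! helper7: in a fibre product over the spectrum of a ring with a single prime (e.g. a field),
the closure of a "product" of subsets is the "product" of the closures. -/

set_option linter.style.haveILetI false
set_option linter.unusedVariables false
set_option linter.unusedSectionVars false
set_option linter.overlappingInstances false

open CategoryTheory CategoryTheory.Limits AlgebraicGeometry

namespace Groth.Agent.Helper7.ClosProd

universe u

section

variable {X Y : Scheme.{u}} (A : CommRingCat.{u}) [Subsingleton (PrimeSpectrum A)]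
  (f : X ⟶ Spec A) (g : Y ⟶ Spec A)

/-- Fibre of the first projection over a point, with its open map to `Y`. -/
theorem exists_fibre_fst (x : X) : ∃ (F : Scheme.{u}) (i : F ⟶ pullback f g),
    Set.range i = (pullback.fst f g) ⁻¹' {x} ∧ IsOpenMap (i ≫ pullback.snd f g) := by
  let ι := X.fromSpecResidueField x
  refine ⟨pullback ι (pullback.fst f g), pullback.snd ι (pullback.fst f g), ?_, ?_⟩
  · rw [Scheme.Pullback.range_snd, Scheme.range_fromSpecResidueField]
  · have h1 : IsPullback (pullback.snd ι (pullback.fst f g)) (pullback.fst ι (pullback.fst f g))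
        (pullback.fst f g) ι := (IsPullback.of_hasPullback ι (pullback.fst f g)).flip
    have h2 : IsPullback (pullback.snd f g) (pullback.fst f g) g f :=
      (IsPullback.of_hasPullback f g).flip
    have h3 := (h1.paste_horiz h2).flip
    haveI : UniversallyOpen (ι ≫ f) :=
      Groth.Agent.Lib.Helper4.UOp.universallyOpen_of_subsingleton_spec A (ι ≫ f)
    haveI : UniversallyOpen (pullback.snd ι (pullback.fst f g) ≫ pullback.snd f g) :=
      MorphismProperty.of_isPullback h3 inferInstance
    exact Scheme.Hom.isOpenMap _

/-- Fibre of the second projection over a point, with its open map to `X`. -/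
theorem exists_fibre_snd (y : Y) : ∃ (F : Scheme.{u}) (i : F ⟶ pullback f g),
    Set.range i = (pullback.snd f g) ⁻¹' {y} ∧ IsOpenMap (i ≫ pullback.fst f g) := by
  let ι := Y.fromSpecResidueField y
  refine ⟨pullback (pullback.snd f g) ι, pullback.fst (pullback.snd f g) ι, ?_, ?_⟩
  · rw [Scheme.Pullback.range_fst, Scheme.range_fromSpecResidueField]
  · have h1 : IsPullback (pullback.fst (pullback.snd f g) ι) (pullback.snd (pullback.snd f g) ι)
        (pullback.snd f g) ι := IsPullback.of_hasPullback (pullback.snd f g) ι
    have h2 : IsPullback (pullback.fst f g) (pullback.snd f g) f g :=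
      IsPullback.of_hasPullback f g
    have h3 := (h1.paste_horiz h2).flip
    haveI : UniversallyOpen (ι ≫ g) :=
      Groth.Agent.Lib.Helper4.UOp.universallyOpen_of_subsingleton_spec A (ι ≫ g)
    haveI : UniversallyOpen (pullback.fst (pullback.snd f g) ι ≫ pullback.fst f g) :=
      MorphismProperty.of_isPullback h3 inferInstance
    exact Scheme.Hom.isOpenMap _

theorem closure_inter (S : Set X) (T : Set Y) :
    closure ((pullback.fst f g) ⁻¹' S ∩ (pullback.snd f g) ⁻¹' T) =
      (pullback.fst f g) ⁻¹' closure S ∩ (pullback.snd f g) ⁻¹' closure T := by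
  apply subset_antisymm
  · apply closure_minimal
    · exact Set.inter_subset_inter (Set.preimage_mono subset_closure)
        (Set.preimage_mono subset_closure)
    · exact ((isClosed_closure).preimage (pullback.fst f g).continuous).inter
        ((isClosed_closure).preimage (pullback.snd f g).continuous)
  · -- step 2: points over `S` and over the closure of `T`
    have step2 : (pullback.fst f g) ⁻¹' S ∩ (pullback.snd f g) ⁻¹' closure T ⊆
        closure ((pullback.fst f g) ⁻¹' S ∩ (pullback.snd f g) ⁻¹' T) := by
      rintro z ⟨hzS, hzT⟩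
      rw [mem_closure_iff]
      intro W hW hzW
      obtain ⟨F, i, hrange, hopen⟩ := exists_fibre_fst A f g ((pullback.fst f g) z)
      have hz : z ∈ Set.range i := by
        rw [hrange]
        exact rfl
      obtain ⟨z', rfl⟩ := hz
      have hW' : IsOpen (i ⁻¹' W) := hW.preimage i.continuous
      have hopenW := hopen _ hW'
      have hmem : (i ≫ pullback.snd f g) z' ∈ (i ≫ pullback.snd f g) '' (i ⁻¹' W) :=
        ⟨z', hzW, rfl⟩
      have hzT' : (i ≫ pullback.snd f g) z' ∈ closure T := hzT
      obtain ⟨t, ⟨w', hw'W, rfl⟩, htT⟩ := mem_closure_iff.1 hzT' _ hopenW hmem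
      refine ⟨i w', hw'W, ?_, htT⟩
      have h1 : i w' ∈ Set.range i := ⟨w', rfl⟩
      rw [hrange] at h1
      have h2 : (pullback.fst f g) (i w') = (pullback.fst f g) (i z') := h1
      show (pullback.fst f g) (i w') ∈ S
      rw [h2]
      exact hzS
    rintro z ⟨hzS, hzT⟩
    have step1 : z ∈ closure ((pullback.fst f g) ⁻¹' S ∩ (pullback.snd f g) ⁻¹' closure T) := by
      rw [mem_closure_iff]
      intro W hW hzW
      obtain ⟨F, i, hrange, hopen⟩ := exists_fibre_snd A f g ((pullback.snd f g) z)
      have hz : z ∈ Set.range i := by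
        rw [hrange]
        exact rfl
      obtain ⟨z', rfl⟩ := hz
      have hW' : IsOpen (i ⁻¹' W) := hW.preimage i.continuous
      have hopenW := hopen _ hW'
      have hmem : (i ≫ pullback.fst f g) z' ∈ (i ≫ pullback.fst f g) '' (i ⁻¹' W) :=
        ⟨z', hzW, rfl⟩
      have hzS' : (i ≫ pullback.fst f g) z' ∈ closure S := hzS
      obtain ⟨t, ⟨w', hw'W, rfl⟩, htS⟩ := mem_closure_iff.1 hzS' _ hopenW hmem
      refine ⟨i w', hw'W, htS, ?_⟩
      have h1 : i w' ∈ Set.range i := ⟨w', rfl⟩
      rw [hrange] at h1
      have h2 : (pullback.snd f g) (i w') = (pullback.snd f g) (i z') := h1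
      show (pullback.snd f g) (i w') ∈ closure T
      rw [h2]
      exact hzT
    exact (closure_minimal step2 isClosed_closure) step1

end

end Groth.Agent.Helper7.ClosProd
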